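import Groth.Agent.RegImm38.Spread
import Groth.Agent.CIntReg.Main
import Groth.Prelude.Def_Mor2

/-! # Regular closed immersions near a point and regular ideals of local rings -/

set_option autoImplicit false
set_option linter.style.haveILetI false

universe u

open CategoryTheory AlgebraicGeometry RingTheory.Sequence IsLocalRing

namespace Groth.Agent.CIntImm

theorem isRegularIdeal_map_equiv {A B : Type u} [CommRing A] [CommRing B] (e : A ≃+* B) {I : Ideal A}
    (h : CInt.IsRegularIdeal I) : CInt.IsRegularIdeal (I.map (e : A →+* B)) := by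
  obtain ⟨rs, hrs, rfl⟩ := h
  refine ⟨rs.map e, ?_, by rw [Ideal.map_ofList]; rfl⟩
  have hw : IsWeaklyRegular B (rs.map e) := by
    letI := (e : A →+* B).toAlgebra
    refine (isWeaklyRegular_map_algebraMap_iff B B rs).mpr ?_
    exact ((AlgEquiv.ofRingEquiv (f := e) (fun x => rfl) : A ≃ₐ[A] B).toLinearEquiv.isWeaklyRegular_congr rs).mp
      hrs.toIsWeaklyRegular
  refine ⟨hw, fun htop => hrs.top_ne_smul ?_⟩
  have h1 : Ideal.ofList (rs.map e) = ⊤ := by simpa using htop.symm
  have h2 : Ideal.ofList rs = ⊤ := by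
    have h3 := congrArg (Ideal.comap (e : A →+* B)) h1
    rw [show rs.map e = rs.map (e : A →+* B) from rfl, ← Ideal.map_ofList, Ideal.comap_top] at h3
    rwa [Ideal.comap_map_of_bijective (e : A →+* B) e.bijective] at h3
  simp [h2]

theorem ker_app_restrict {X Y : Scheme.{u}} (i : Y ⟶ X) (V : X.Opens) (W : (V : Scheme.{u}).Opens) :
    RingHom.ker ((i ∣_ V).app W).hom = RingHom.ker (i.app (V.ι ''ᵁ W)).hom := by
  have key : ∀ {P Q R : CommRingCat.{u}} (f : P ⟶ Q) (g : Q ⟶ R), IsIso g →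
      RingHom.ker (f ≫ g).hom = RingHom.ker f.hom := by
    intro P Q R f g hg
    ext a
    rw [RingHom.mem_ker, RingHom.mem_ker, CommRingCat.comp_apply]
    exact map_eq_zero_iff g.hom (ConcreteCategory.bijective_of_isIso g).1
  rw [morphismRestrict_app]
  exact key _ _ (Functor.map_isIso _ _)

/-- Regularity near a point of a closed immersion into a locally Noetherian scheme is seen in the local ring. -/
theorem exists_restrict_iff {X Y : Scheme.{u}} [IsLocallyNoetherian X] (i : Y ⟶ X) [IsClosedImmersion i]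
    (y : Y) : (∃ V : X.Opens, i y ∈ V ∧ Mor2.IsRegularClosedImmersion (i ∣_ V)) ↔
      CInt.IsRegularIdeal (RingHom.ker (i.stalkMap y).hom) := by
  have hres : ∀ (O : X.Opens), IsClosedImmersion (i ∣_ O) := fun O =>
    MorphismProperty.of_isPullback (isPullback_morphismRestrict i O).flip inferInstance
  constructor
  · rintro ⟨V, hyV, -, h⟩
    obtain ⟨U, hU, hyU, rs, hrs, hker⟩ := h ⟨y, hyV⟩
    haveI := hres V
    rw [Scheme.Hom.ker_apply, ker_app_restrict] at hker
    have hU' : IsAffineOpen (V.ι ''ᵁ U) := hU.image_of_isOpenImmersion V.ι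
    have hyU' : i y ∈ V.ι ''ᵁ U := ⟨(i ∣_ V) ⟨y, hyV⟩, hyU, morphismRestrict_base_coe i V ⟨y, hyV⟩⟩
    haveI := hres (V.ι ''ᵁ U)
    letI := TopCat.Presheaf.algebra_section_stalk X.presheaf (⟨i y, hyU'⟩ : ↥(V.ι ''ᵁ U))
    haveI := hU'.isLocalization_stalk ⟨i y, hyU'⟩
    have hk := RegImm38.ker_stalkMap_eq_map i hU' y hyU'
    let rs' : List Γ(X, V.ι ''ᵁ U) := rs
    have hw : IsWeaklyRegular Γ(X, V.ι ''ᵁ U) rs' := hrs.toIsWeaklyRegular
    have hker' : RingHom.ker (i.app (V.ι ''ᵁ U)).hom = Ideal.ofList rs' := hker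
    refine ⟨rs'.map (algebraMap Γ(X, V.ι ''ᵁ U) (X.presheaf.stalk (i y))), ?_, ?_⟩
    · haveI : Module.Flat Γ(X, V.ι ''ᵁ U) (X.presheaf.stalk (i y)) :=
        IsLocalization.flat _ ((hU'.primeIdealOf ⟨i y, hyU'⟩).asIdeal.primeCompl)
      refine .of_isWeaklyRegular_of_mem_maximalIdeal _ (fun r hr => ?_)
        hw.of_flat
      obtain ⟨r', hr', rfl⟩ := List.mem_map.1 hr
      refine le_maximalIdeal (RingHom.ker_ne_top (i.stalkMap y).hom) ?_
      rw [hk]
      refine Ideal.mem_map_of_mem _ ?_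
      rw [hker']
      exact Ideal.subset_span hr'
    · rw [← Ideal.map_ofList]
      refine Eq.trans ?_ hk.symm
      rw [hker']
      rfl
  · rintro ⟨ts, hts, hker⟩
    obtain ⟨⟨U, hU⟩, hyU, -, rs, hrs, hk⟩ :=
      RegImm38.isRegularImmersionAt_of_stalk i y hts.toIsWeaklyRegular hker.symm
    refine ⟨U, hyU, hres U, fun z => ⟨⊤, ?_, trivial, ?_⟩⟩
    · haveI : IsAffine (U : Scheme.{u}) := hU
      exact isAffineOpen_top _
    · haveI := hres U
      have key : ∀ (V' : X.Opens) (_ : V' = U), ∃ rs' : List Γ(X, V'), IsRegular Γ(X, V') rs' ∧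
          RingHom.ker (i.app V').hom = Ideal.ofList rs' := by
        rintro V' rfl
        exact ⟨rs, hrs, hk⟩
      obtain ⟨rs', hrs', hk'⟩ := key (U.ι ''ᵁ ⊤) U.ι_image_top
      refine ⟨rs', hrs', ?_⟩
      rw [Scheme.Hom.ker_apply, ker_app_restrict]
      exact hk'

section Local

variable {A B C : Type u} [CommRing A] [CommRing B] [CommRing C] [IsLocalRing A] [IsNoetherianRing A]
  (f : A →+* B) (hf : Function.Surjective f) (g : B →+* C)

include hf in
theorem map_mk_iff :
    CInt.IsRegularIdeal ((RingHom.ker (g.comp f)).map (Ideal.Quotient.mk (RingHom.ker f))) ↔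
      CInt.IsRegularIdeal (RingHom.ker g) := by
  let e := RingHom.quotientKerEquivOfSurjective hf
  have h1 : ((RingHom.ker (g.comp f)).map (Ideal.Quotient.mk (RingHom.ker f))).map (e : A ⧸ RingHom.ker f →+* B) =
      RingHom.ker g := by
    rw [Ideal.map_map, show ((e : A ⧸ RingHom.ker f →+* B)).comp (Ideal.Quotient.mk _) = f from RingHom.ext fun a => rfl,
      ← RingHom.comap_ker, Ideal.map_comap_of_surjective f hf]
  refine ⟨fun h => h1 ▸ isRegularIdeal_map_equiv e h, fun h => ?_⟩
  have h2 := isRegularIdeal_map_equiv e.symm h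
  rw [← h1] at h2
  convert h2 using 1
  exact (Ideal.map_of_equiv e).symm

variable [Nontrivial C]

include hf in
theorem regular_and_iff (hg : CInt.IsRegularIdeal (RingHom.ker g)) :
    CInt.IsRegularIdeal (RingHom.ker f) ↔ CInt.IsRegularIdeal (RingHom.ker (g.comp f)) := by
  have hJK : RingHom.ker f ≤ RingHom.ker (g.comp f) := fun a ha => by
    rw [RingHom.mem_ker, RingHom.comp_apply, RingHom.mem_ker.1 ha, map_zero]
  have hK : RingHom.ker (g.comp f) ≤ maximalIdeal A := le_maximalIdeal (RingHom.ker_ne_top _)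
  obtain ⟨ts, -, hreg, hsup⟩ := CIntReg.exists_lift hJK hK ((map_mk_iff f hf g).2 hg)
  exact ⟨fun h => CIntReg.isRegularIdeal_of_lift hK h hreg hsup,
    fun h => CIntReg.isRegularIdeal_of_lift' ts hJK hK h hreg hsup⟩

include hf in
theorem regular_comp_iff [IsRegularLocalRing A] [IsRegularLocalRing B] :
    CInt.IsRegularIdeal (RingHom.ker (g.comp f)) ↔ CInt.IsRegularIdeal (RingHom.ker g) := by
  have hAJ : IsRegularLocalRing (A ⧸ RingHom.ker f) :=
    IsRegularLocalRing.of_ringEquiv (RingHom.quotientKerEquivOfSurjective hf).symm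
  have hJ := CIntReg.isRegularIdeal_of_quotient_regular hAJ
  refine ⟨fun h => ?_, fun h => (regular_and_iff f hf g h).1 hJ⟩
  have hJK : RingHom.ker f ≤ RingHom.ker (g.comp f) := fun a ha => by
    rw [RingHom.mem_ker, RingHom.comp_apply, RingHom.mem_ker.1 ha, map_zero]
  have hK : RingHom.ker (g.comp f) ≤ maximalIdeal A := le_maximalIdeal (RingHom.ker_ne_top _)
  obtain ⟨n, hn, -⟩ := RegLoc.exists_natCast_eq_ringKrullDim A
  obtain ⟨ts, hts, hsup⟩ := CIntReg.map_isRegularIdeal n hn hJK hK hAJ h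
  refine (map_mk_iff f hf g).1 ⟨ts.map (Ideal.Quotient.mk _), ?_, ?_⟩
  · haveI := hAJ
    refine .of_isWeaklyRegular_of_mem_maximalIdeal _ (fun r hr => ?_)
      ((isWeaklyRegular_map_algebraMap_iff (A ⧸ RingHom.ker f) _ ts).mpr hts)
    obtain ⟨r', hr', rfl⟩ := List.mem_map.1 hr
    rw [RegLoc.maximalIdeal_quotient_eq_map]
    exact Ideal.mem_map_of_mem _ (hK (hsup.le (Ideal.mem_sup_left (Ideal.subset_span hr'))))
  · rw [← hsup, Ideal.map_sup, Ideal.map_ofList, Ideal.map_quotient_self, sup_bot_eq]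

end Local

theorem isRegularLocalRing_of_isRegular :
    ∀ (n : ℕ) {A : Type u} [CommRing A] [IsLocalRing A] [IsNoetherianRing A] (rs : List A), rs.length = n →
      IsRegular A rs → IsRegularLocalRing (A ⧸ Ideal.ofList rs) → IsRegularLocalRing A := by
  intro n
  induction n with
  | zero =>
    intro A _ _ _ rs hn _ h
    rw [List.length_eq_zero_iff] at hn
    subst hn
    haveI := h
    exact IsRegularLocalRing.of_ringEquiv ((Ideal.quotEquivOfEq Ideal.ofList_nil).trans (RingEquiv.quotientBot A))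
  | succ n ih =>
    intro A _ _ _ rs hn hrs h
    obtain ⟨t, rs, rfl⟩ := List.exists_cons_of_length_eq_add_one hn
    have htm : t ∈ maximalIdeal A := CIntReg.mem_maximalIdeal_of_mem hrs List.mem_cons_self
    haveI : IsLocalRing (A ⧸ Ideal.span {t}) :=
      RegLoc.isLocalRing_quotient ((Ideal.span_singleton_le_iff_mem _).mpr htm)
    obtain ⟨ht, hrest⟩ := (CIntReg.isRegular_cons htm rs).mp hrs
    have h2 : IsRegularLocalRing ((A ⧸ Ideal.span {t}) ⧸ Ideal.ofList (rs.map (Ideal.Quotient.mk (Ideal.span {t})))) := by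
      haveI := h
      refine IsRegularLocalRing.of_ringEquiv ((Ideal.quotEquivOfEq (Ideal.ofList_cons t rs)).trans
        ((DoubleQuot.quotQuotEquivQuotSup _ _).symm.trans (Ideal.quotEquivOfEq ?_)))
      rw [Ideal.map_ofList]
    haveI := ih (rs.map (Ideal.Quotient.mk (Ideal.span {t}))) (by simpa using hn) hrest h2
    refine RegLoc.isRegularLocalRing_of_quotient_span_singleton htm ?_
    exact mem_nonZeroDivisors_iff_right.2 fun x hx =>
      ht (by simp only [smul_eq_mul, mul_zero]; rw [mul_comm]; exact hx)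

theorem regular_iff {A B : Type u} [CommRing A] [CommRing B] [IsLocalRing A] [IsNoetherianRing A]
    [IsRegularLocalRing B] (f : A →+* B) (hf : Function.Surjective f) :
    CInt.IsRegularIdeal (RingHom.ker f) ↔ IsRegularLocalRing A := by
  have hAJ : IsRegularLocalRing (A ⧸ RingHom.ker f) :=
    IsRegularLocalRing.of_ringEquiv (RingHom.quotientKerEquivOfSurjective hf).symm
  refine ⟨fun ⟨rs, hrs, he⟩ => ?_, fun h => CIntReg.isRegularIdeal_of_quotient_regular hAJ⟩
  exact isRegularLocalRing_of_isRegular _ rs rfl hrs (he ▸ hAJ)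

end Groth.Agent.CIntImm
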